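import Mathlib
import Groth.Agent.CSA8.Split
import Groth.Agent.CSA8.Similar
import Groth.Agent.Cyc8.Norm

set_option autoImplicit false
universe u v w x

open scoped TensorProduct

namespace Groth.Agent.Br8

variable {k : Type u} [Field k]

/-- finite-dimensional central simple -/
class IsCSA (k : Type u) [Field k] (A : Type v) [Ring A] [Algebra k A] : Prop where
  central : Algebra.IsCentral k A
  simple : IsSimpleRing A
  fd : FiniteDimensional k A

theorem isCSA (A : Type v) [Ring A] [Algebra k A] [Algebra.IsCentral k A] [IsSimpleRing A] [FiniteDimensional k A] :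
    IsCSA k A := ⟨inferInstance, inferInstance, inferInstance⟩

theorem isCSA_congr {A : Type v} [Ring A] [Algebra k A] {B : Type w} [Ring B] [Algebra k B] (h : IsCSA k A)
    (e : A ≃ₐ[k] B) : IsCSA k B := by
  haveI := h.central; haveI := h.simple; haveI := h.fd
  exact ⟨⟨fun z hz => by
      have hm : e.symm z ∈ Subalgebra.center k A := Subalgebra.mem_center_iff.2 fun a => by
        refine e.injective ?_
        rw [map_mul, map_mul, e.apply_symm_apply]
        exact Subalgebra.mem_center_iff.1 hz (e a)
      rw [Algebra.IsCentral.center_eq_bot, Algebra.mem_bot] at hm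
      obtain ⟨c, hc⟩ := hm
      exact Algebra.mem_bot.2 ⟨c, by rw [← e.commutes, hc, e.apply_symm_apply]⟩⟩, IsSimpleRing.of_ringEquiv e.toRingEquiv inferInstance,
    LinearEquiv.finiteDimensional e.toLinearEquiv⟩

theorem central_tensor (A : Type v) [Ring A] [Algebra k A] [Algebra.IsCentral k A] (B : Type w) [Ring B] [Algebra k B]
    [Algebra.IsCentral k B] [FiniteDimensional k B] : Algebra.IsCentral k (A ⊗[k] B) := by
  classical
  refine ⟨fun z hz => ?_⟩
  rw [Subalgebra.mem_center_iff] at hz
  let b := Module.finBasis k B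
  let c := TensorProduct.equivFinsuppOfBasisRight (M := A) b
  have hc : ∀ i, c z i ∈ Subalgebra.center k A := fun i => by
    rw [Subalgebra.mem_center_iff]
    intro a
    have h1 : ∀ t : A ⊗[k] B, c ((a ⊗ₜ[k] (1 : B)) * t) i = a * c t i ∧ c (t * (a ⊗ₜ[k] (1 : B))) i = c t i * a := by
      intro t
      induction t using TensorProduct.induction_on with
      | zero => simp
      | tmul p q => simp [c, TensorProduct.equivFinsuppOfBasisRight_apply_tmul_apply]
      | add p q hp hq =>
        simp only [mul_add, add_mul, map_add, Finsupp.add_apply, hp.1, hp.2, hq.1, hq.2, and_self]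
    rw [← (h1 z).1, ← (h1 z).2, hz]
  have hc' : ∀ i, ∃ r : k, algebraMap k A r = c z i := fun i => by
    have := hc i
    rwa [Algebra.IsCentral.center_eq_bot, Algebra.mem_bot] at this
  choose r hr using hc'
  let y : B := ∑ i, r i • b i
  have hzy : z = (1 : A) ⊗ₜ[k] y := by
    conv_lhs => rw [← c.symm_apply_apply z]
    rw [TensorProduct.equivFinsuppOfBasisRight_symm_apply, Finsupp.sum_fintype _ _ (fun i => by simp),
      TensorProduct.tmul_sum]
    refine Finset.sum_congr rfl fun i _ => ?_
    rw [← hr, Algebra.algebraMap_eq_smul_one, TensorProduct.smul_tmul]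
  rcases subsingleton_or_nontrivial A with hA | hA
  · haveI : Subsingleton (A ⊗[k] B) := by
      refine subsingleton_of_forall_eq 0 fun t => ?_
      induction t using TensorProduct.induction_on with
      | zero => rfl
      | tmul p q => rw [Subsingleton.elim p 0, TensorProduct.zero_tmul]
      | add p q hp hq => rw [hp, hq, add_zero]
    exact Algebra.mem_bot.mpr ⟨0, Subsingleton.elim _ _⟩
  have hy : y ∈ Subalgebra.center k B := Subalgebra.mem_center_iff.mpr fun q => by
    have := hz ((1 : A) ⊗ₜ[k] q)
    rw [hzy, Algebra.TensorProduct.tmul_mul_tmul, Algebra.TensorProduct.tmul_mul_tmul, one_mul] at this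
    exact Algebra.TensorProduct.includeRight_injective (algebraMap k A).injective this
  rw [Algebra.IsCentral.center_eq_bot, Algebra.mem_bot] at hy
  obtain ⟨s, hs⟩ := hy
  refine Algebra.mem_bot.mpr ⟨s, ?_⟩
  rw [hzy, ← hs, Algebra.algebraMap_eq_smul_one, Algebra.algebraMap_eq_smul_one, TensorProduct.tmul_smul,
    Algebra.TensorProduct.one_def]

theorem isCSA_tensor {A : Type v} [Ring A] [Algebra k A] {B : Type w} [Ring B] [Algebra k B] (hA : IsCSA k A)
    (hB : IsCSA k B) : IsCSA k (A ⊗[k] B) := by
  haveI := hA.central; haveI := hA.simple; haveI := hA.fd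
  haveI := hB.central; haveI := hB.simple; haveI := hB.fd
  exact ⟨central_tensor A B, CSA8.tensor_simple k A B, inferInstance⟩

theorem isCSA_self : IsCSA k k := ⟨inferInstance, inferInstance, inferInstance⟩

theorem central_of_matrix {A : Type v} [Ring A] [Algebra k A] [Algebra.IsCentral k A] {D : Type w} [Ring D]
    [Algebra k D] {s : ℕ} (hs : s ≠ 0) (e : A ≃ₐ[k] Matrix (Fin s) (Fin s) D) : Algebra.IsCentral k D := by
  refine ⟨fun z hz => ?_⟩
  have hs0 : 0 < s := Nat.pos_of_ne_zero hs
  have hmem : Matrix.scalar (Fin s) z ∈ Subalgebra.center k (Matrix (Fin s) (Fin s) D) :=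
    Subalgebra.mem_center_iff.2 fun M => by
      ext i j; simp [Matrix.mul_diagonal, Matrix.diagonal_mul, (Subalgebra.mem_center_iff.1 hz (M i j))]
  have hmem' : e.symm (Matrix.scalar (Fin s) z) ∈ Subalgebra.center k A := Subalgebra.mem_center_iff.2 fun a => by
    refine e.injective ?_
    rw [map_mul, map_mul, e.apply_symm_apply]
    exact Subalgebra.mem_center_iff.1 hmem (e a)
  rw [Algebra.IsCentral.center_eq_bot, Algebra.mem_bot] at hmem'
  obtain ⟨c, hc⟩ := hmem'
  have h := congrArg e hc
  rw [e.commutes, e.apply_symm_apply] at h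
  refine Algebra.mem_bot.2 ⟨c, ?_⟩
  simpa [Matrix.algebraMap_matrix_apply] using congrFun (congrFun h ⟨0, hs0⟩) ⟨0, hs0⟩

/-- the division algebra part -/
theorem exists_division {A : Type v} [Ring A] [Algebra k A] (h : IsCSA k A) :
    ∃ (s : ℕ) (D : Type v) (_ : DivisionRing D) (_ : Algebra k D),
      s ≠ 0 ∧ IsCSA k D ∧ Nonempty (A ≃ₐ[k] Matrix (Fin s) (Fin s) D) := by
  haveI := h.central; haveI := h.simple; haveI := h.fd
  have : IsArtinianRing A := .of_finite k A
  obtain ⟨s, hs, D, iD, aD, hfin, ⟨e⟩⟩ := IsSimpleRing.exists_algEquiv_matrix_divisionRing_finite k A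
  exact ⟨s, D, iD, aD, hs.out, ⟨central_of_matrix hs.out e, inferInstance, hfin⟩, ⟨e⟩⟩

section Tpow

variable (A : Type v) [Ring A] [Algebra k A]

noncomputable def tpowZero : CSAGal.tpow k A 0 ≃ₐ[k] k :=
  AlgEquiv.ofLinearEquiv (PiTensorProduct.isEmptyEquiv (Fin 0))
    (by rw [PiTensorProduct.one_def]; simp)
    (LinearMap.map_mul_iff (PiTensorProduct.isEmptyEquiv (R := k) (s := fun _ : Fin 0 => A) (Fin 0)).toLinearMap |>.mpr <| by
      ext a b
      simp)

theorem isCSA_tpow (h : IsCSA k A) (e : ℕ) : IsCSA k (CSAGal.tpow k A e) := by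
  induction e with
  | zero => exact isCSA_congr isCSA_self (tpowZero A).symm
  | succ e ih => exact isCSA_congr (isCSA_tensor ih h) (Cyc8.tpowSucc k A e).symm

theorem finrank_tpow [FiniteDimensional k A] (e : ℕ) :
    Module.finrank k (CSAGal.tpow k A e) = Module.finrank k A ^ e := by
  induction e with
  | zero => rw [(tpowZero (k := k) A).toLinearEquiv.finrank_eq, Module.finrank_self, pow_zero]
  | succ e ih =>
    rw [(Cyc8.tpowSucc k A e).toLinearEquiv.finrank_eq, Module.finrank_tensorProduct, ih, pow_succ]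

end Tpow

end Groth.Agent.Br8
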