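import Groth.Agent.Br8.Goldman
import Groth.Agent.RN8.SepField
import Groth.Agent.CSA.MatrixUnique

set_option autoImplicit false
universe u v w x y

open scoped TensorProduct

namespace Groth.Agent.Br8

variable {k : Type u} [Field k]

theorem Sim.splits {A : Type v} [Ring A] [Algebra k A] {B : Type w} [Ring B] [Algebra k B] (hA : IsCSA k A)
    (h : Sim k A B) {K : Type x} [Field K] [Algebra k K] (hs : Curves.Splits k B K) : Curves.Splits k A K := by
  haveI := hA.central; haveI := hA.simple; haveI := hA.fd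
  obtain ⟨n, m, hn, hm, ⟨e⟩⟩ := h
  exact CSA8.splits_of_matrix K A hn (CSA8.splits_congr K e (CSA8.splits_matrix K B hm hs))

/-- an algebra similar to a division algebra is a matrix algebra over it -/
theorem sim_division {A : Type v} [Ring A] [Algebra k A] (hA : IsCSA k A) {D : Type w} [DivisionRing D] [Algebra k D]
    [FiniteDimensional k D] (h : Sim k A D) : ∃ s : ℕ, s ≠ 0 ∧ Nonempty (A ≃ₐ[k] Matrix (Fin s) (Fin s) D) := by
  obtain ⟨s, D', _, _, hs, hD', ⟨e⟩⟩ := exists_division hA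
  haveI := hD'.fd
  obtain ⟨n, m, hn, hm, ⟨f⟩⟩ := h
  haveI : Nonempty (Fin (n * s)) := ⟨⟨0, Nat.pos_of_ne_zero (mul_ne_zero hn hs)⟩⟩
  haveI : Nonempty (Fin m) := ⟨⟨0, Nat.pos_of_ne_zero hm⟩⟩
  let φ : Matrix (Fin (n * s)) (Fin (n * s)) D' ≃ₐ[k] Matrix (Fin m) (Fin m) D :=
    (mm D' n s).symm.trans (e.symm.mapMatrix.trans f)
  obtain ⟨⟨η⟩, -⟩ := CSA.MatrixUnique.unique φ
  exact ⟨s, hs, ⟨e.trans η.mapMatrix⟩⟩

theorem exists_deg {A : Type v} [Ring A] [Algebra k A] (hA : IsCSA k A) :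
    ∃ n, n ≠ 0 ∧ Module.finrank k A = n ^ 2 ∧ Nonempty (RN8.Spl k A n) := by
  haveI := hA.central; haveI := hA.simple; haveI := hA.fd
  obtain ⟨n, ⟨ψ⟩⟩ := RN8.spl_exists (k := k) (A := A)
  refine ⟨n, fun h0 => ?_, RN8.finrank_eq ψ, ⟨ψ⟩⟩
  have hp : 0 < Module.finrank k A := Module.finrank_pos
  rw [RN8.finrank_eq ψ, h0] at hp
  simp at hp

theorem deg_pow {A : Type v} [Ring A] [Algebra k A] (hA : IsCSA k A) {n : ℕ} (hn : Module.finrank k A = n ^ 2) :
    cl A hA ^ n = 1 := by
  obtain ⟨m, -, hm, ⟨ψ⟩⟩ := exists_deg hA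
  obtain rfl : m = n := Nat.pow_left_injective two_ne_zero (hm.symm.trans hn)
  exact (tpow_splits_iff hA m).mp (tpow_deg_splits ψ hA)

/-- the degree of a division algebra divides the degree of any splitting field -/
theorem deg_dvd {D : Type v} [DivisionRing D] [Algebra k D] [FiniteDimensional k D] {d : ℕ}
    (hd : Module.finrank k D = d ^ 2) {K : Type w} [Field K] [Algebra k K] [FiniteDimensional k K]
    (h : Curves.Splits k D K) : d ∣ Module.finrank k K := by
  obtain ⟨m, hm, ⟨φ⟩⟩ := h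
  have hdm : d = m := by
    have h := φ.toLinearEquiv.finrank_eq
    rw [Module.finrank_baseChange, Module.finrank_matrix, Fintype.card_fin, Module.finrank_self, mul_one, hd, ← pow_two] at h
    exact Nat.pow_left_injective two_ne_zero h
  subst hdm
  let ρ : D →ₐ[k] Module.End K (Fin d → K) :=
    ((Matrix.toLinAlgEquiv' : Matrix _ _ K ≃ₐ[K] _).toAlgHom.restrictScalars k).comp
      ((φ.toAlgHom.restrictScalars k).comp Algebra.TensorProduct.includeRight)
  letI : Module D (Fin d → K) := Module.compHom _ ρ.toRingHom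
  have hsm : ∀ (a : D) (v : Fin d → K), a • v = ρ a v := fun _ _ => rfl
  haveI : IsScalarTower k D (Fin d → K) := ⟨fun c x v => by rw [hsm, hsm, map_smul]; rfl⟩
  have h1 := Module.finrank_mul_finrank k D (Fin d → K)
  rw [hd, Module.finrank_pi_fintype, Finset.sum_const, Finset.card_univ, Fintype.card_fin, smul_eq_mul, pow_two,
    mul_assoc] at h1
  exact ⟨_, (Nat.eq_of_mul_eq_mul_left (Nat.pos_of_ne_zero hm) h1).symm⟩

/-- a division algebra of degree `d` is split by a field of degree `d` -/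
theorem exists_splitting_deg {D : Type v} [DivisionRing D] [Algebra k D] (hD : IsCSA k D) {d : ℕ}
    (hd : Module.finrank k D = d ^ 2) :
    ∃ (L : Type u) (_ : Field L) (_ : Algebra k L),
      FiniteDimensional k L ∧ Module.finrank k L = d ∧ Curves.Splits k D L := by
  haveI := hD.central; haveI := hD.simple; haveI := hD.fd
  obtain ⟨n, -, hn, ⟨δ⟩⟩ := exists_deg hD
  obtain rfl : n = d := Nat.pow_left_injective two_ne_zero (hn.symm.trans hd)
  obtain ⟨p, hp, ι, hsep, hdeg, hfd, -⟩ := RN8.exists_separable_field δ 1 (by rw [map_one, Matrix.det_one]; exact one_ne_zero)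
  exact ⟨AdjoinRoot p, inferInstance, inferInstance, hfd, hdeg, CSA8.splits_of_embedding ι (by rw [hn, hdeg])⟩

section BaseChange

variable (K : Type v) [Field K] [Algebra k K]

theorem isCSA_baseChange {A : Type w} [Ring A] [Algebra k A] (hA : IsCSA k A) : IsCSA K (K ⊗[k] A) := by
  classical
  haveI := hA.central; haveI := hA.simple; haveI := hA.fd
  refine ⟨⟨fun z hz => ?_⟩, CSA8.tensor_simple k K A, inferInstance⟩
  rw [Subalgebra.mem_center_iff] at hz
  obtain ⟨J, b⟩ : Σ J : Type v, Module.Basis J k K := ⟨_, Module.Free.chooseBasis k K⟩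
  let c := TensorProduct.equivFinsuppOfBasisLeft (N := A) b
  have hc : ∀ i, c z i ∈ Subalgebra.center k A := fun i => by
    rw [Subalgebra.mem_center_iff]
    intro a
    have h1 : ∀ t : K ⊗[k] A, c (((1 : K) ⊗ₜ[k] a) * t) i = a * c t i ∧ c (t * ((1 : K) ⊗ₜ[k] a)) i = c t i * a := by
      intro t
      induction t using TensorProduct.induction_on with
      | zero => simp
      | tmul p q => simp [c, TensorProduct.equivFinsuppOfBasisLeft_apply_tmul_apply]
      | add p q hp hq =>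
        simp only [mul_add, add_mul, map_add, Finsupp.add_apply, hp.1, hp.2, hq.1, hq.2, and_self]
    rw [← (h1 z).1, ← (h1 z).2, hz]
  have hc' : ∀ i, ∃ r : k, algebraMap k A r = c z i := fun i => by
    have := hc i
    rwa [Algebra.IsCentral.center_eq_bot, Algebra.mem_bot] at this
  choose r hr using hc'
  refine Algebra.mem_bot.mpr ⟨∑ i ∈ (c z).support, r i • b i, ?_⟩
  conv_rhs => rw [← c.symm_apply_apply z]
  rw [TensorProduct.equivFinsuppOfBasisLeft_symm_apply, Finsupp.sum, Algebra.TensorProduct.algebraMap_apply,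
    Algebra.algebraMap_self, RingHom.id_apply, TensorProduct.sum_tmul]
  refine Finset.sum_congr rfl fun i _ => ?_
  rw [← hr, Algebra.algebraMap_eq_smul_one, TensorProduct.smul_tmul]

theorem sim_baseChange {A : Type w} [Ring A] [Algebra k A] {B : Type x} [Ring B] [Algebra k B] (h : Sim k A B) :
    Sim K (K ⊗[k] A) (K ⊗[k] B) := by
  obtain ⟨n, m, hn, hm, ⟨e⟩⟩ := h
  exact ⟨n, m, hn, hm, ⟨(CSA8.baseMatrix K A (Fin n)).symm.trans
    ((Algebra.TensorProduct.congr (AlgEquiv.refl (R := K) (A₁ := K)) e).trans (CSA8.baseMatrix K B (Fin m)))⟩⟩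

/-- base change of classes -/
noncomputable def bc : Br k →* Br K where
  toFun := Quotient.lift (fun a : Obj k => cl (K ⊗[k] a.carrier) (isCSA_baseChange K a.csa))
    (fun a b h => cl_eq_iff.mpr (sim_baseChange K h))
  map_one' := cl_eq_one.mpr (by
    rw [Cyc8.splits_self_iff]
    exact ⟨1, one_ne_zero, ⟨(Algebra.TensorProduct.rid k K K).trans (Cyc8.matrixOne K K)⟩⟩)
  map_mul' a b := Quotient.inductionOn₂ a b fun p q => by
    show cl (K ⊗[k] (p.carrier ⊗[k] q.carrier)) _ = cl (K ⊗[k] p.carrier) _ * cl (K ⊗[k] q.carrier) _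
    rw [← cl_tensor]
    exact cl_congr ((Algebra.TensorProduct.assoc k k K K p.carrier q.carrier).symm.trans
      ((Algebra.TensorProduct.congr (Algebra.TensorProduct.rid K K (K ⊗[k] p.carrier))
        (AlgEquiv.refl (R := k) (A₁ := q.carrier))).symm.trans
        (Algebra.TensorProduct.assoc k K K (K ⊗[k] p.carrier) K q.carrier)))

theorem bc_cl {A : Type w} [Ring A] [Algebra k A] (hA : IsCSA k A) :
    bc K (cl A hA) = cl (K ⊗[k] A) (isCSA_baseChange K hA) := by
  haveI := hA.fd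
  haveI := small_of_fd k A
  exact cl_congr (hA := isCSA_baseChange K (isCSA_congr hA (Shrink.algEquiv k A).symm))
    (hB := isCSA_baseChange K hA) (Algebra.TensorProduct.congr (AlgEquiv.refl (R := K) (A₁ := K)) (Shrink.algEquiv k A))

theorem bc_eq_one {A : Type w} [Ring A] [Algebra k A] (hA : IsCSA k A) :
    bc K (cl A hA) = 1 ↔ Curves.Splits k A K := by
  rw [bc_cl, cl_eq_one]
  constructor
  · rintro ⟨n, hn, ⟨e⟩⟩
    exact ⟨n, hn, ⟨(Algebra.TensorProduct.lid K (K ⊗[k] A)).symm.trans e⟩⟩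
  · rintro ⟨n, hn, ⟨e⟩⟩
    exact ⟨n, hn, ⟨(Algebra.TensorProduct.lid K (K ⊗[k] A)).trans e⟩⟩

end BaseChange

theorem deg_splitting_pow {A : Type v} [Ring A] [Algebra k A] (hA : IsCSA k A) {K : Type w} [Field K] [Algebra k K]
    [FiniteDimensional k K] (h : Curves.Splits k A K) : cl A hA ^ Module.finrank k K = 1 := by
  obtain ⟨s, D, _, _, hs, hD, ⟨e⟩⟩ := exists_division hA
  haveI := hD.fd
  have hsim : Sim k D A := (sim_matrix k D hs).trans (Sim.of_equiv e.symm)
  obtain ⟨d, -, hd, -⟩ := exists_deg hD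
  obtain ⟨r, hr⟩ := deg_dvd hd (hsim.splits hD h)
  rw [(cl_eq_iff (hB := hD)).mpr hsim.symm, hr, pow_mul, deg_pow hD hd, one_pow]

theorem index_data {A : Type v} [Ring A] [Algebra k A] (hA : IsCSA k A) {d : ℕ} (hd : CSAGal.IsIndex k A d) :
    ∃ (D : Type v) (_ : DivisionRing D) (_ : Algebra k D) (hD : IsCSA k D),
      Module.finrank k D = d ^ 2 ∧ cl A hA = cl D hD := by
  obtain ⟨hd0, m, D, _, _, hm, hfin, ⟨e⟩⟩ := hd
  haveI := hA.central
  haveI : Algebra.IsCentral k D := central_of_matrix hm.ne' e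
  haveI : FiniteDimensional k D := FiniteDimensional.of_finrank_pos (by rw [hfin]; exact pow_pos hd0 2)
  exact ⟨D, inferInstance, inferInstance, isCSA D, hfin,
    cl_eq_iff.mpr ((Sim.of_equiv e).trans (sim_matrix k D hm.ne').symm)⟩

theorem period_iff {A : Type v} [Ring A] [Algebra k A] (hA : IsCSA k A) (e : ℕ) :
    CSAGal.IsPeriod k A e ↔ 0 < e ∧ orderOf (cl A hA) = e := by
  unfold CSAGal.IsPeriod
  refine and_congr_right fun he => ?_
  rw [orderOf_eq_iff he, tpow_splits_iff hA]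
  exact and_congr_right fun _ => ⟨fun h m hm hm0 hp => h m hm0 hm ((tpow_splits_iff hA m).mpr hp),
    fun h m hm0 hm hp => h m hm hm0 ((tpow_splits_iff hA m).mp hp)⟩

theorem prime_dvd {D : Type v} [DivisionRing D] [Algebra k D] (hD : IsCSA k D) {d : ℕ}
    (hd : Module.finrank k D = d ^ 2) {e : ℕ} (he : cl D hD ^ e = 1) {p : ℕ} (hp : p.Prime) (hpd : p ∣ d) : p ∣ e := by
  classical
  by_contra hpe
  haveI := hD.central; haveI := hD.simple; haveI := hD.fd
  haveI : Fact p.Prime := ⟨hp⟩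
  obtain ⟨k', _, _, hfd, hsep, hspl⟩ := CSA8.exists_splitting (k := k) D
  let K := IntermediateField.normalClosure k k' (AlgebraicClosure k)
  haveI : Algebra.IsSeparable k K := by
    rw [← le_separableClosure_iff, normalClosure_le_iff]
    exact fun f => by
      haveI : Algebra.IsSeparable k f.fieldRange := AlgEquiv.Algebra.isSeparable (AlgEquiv.ofInjectiveField f)
      exact le_separableClosure k (AlgebraicClosure k) f.fieldRange
  haveI : IsGalois k K := ⟨⟩
  haveI : FiniteDimensional k K := inferInstance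
  let ι : k' →ₐ[k] AlgebraicClosure k := IsAlgClosed.lift
  let ι' : k' →ₐ[k] K := ι.codRestrict K.toSubalgebra fun x => ι.fieldRange_le_normalClosure ⟨x, rfl⟩
  have hK : Curves.Splits k D K := CSA8.splits_mono K ι' hspl
  let P : Sylow p (K ≃ₐ[k] K) := default
  let L := IntermediateField.fixedField (P : Subgroup (K ≃ₐ[k] K))
  have hLP : Module.finrank L K = Nat.card (P : Subgroup (K ≃ₐ[k] K)) := IntermediateField.finrank_fixedField_eq_card _
  obtain ⟨a, ha⟩ : ∃ a, Module.finrank L K = p ^ a := hLP ▸ IsPGroup.iff_card.mp P.isPGroup'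
  have h1 : bc L (cl D hD) ^ e = 1 := by rw [← map_pow, he, map_one]
  have h2 : bc L (cl D hD) ^ (p ^ a) = 1 := by
    rw [bc_cl, ← ha]
    refine deg_splitting_pow _ ?_
    obtain ⟨m, hm, ⟨φ⟩⟩ := hK
    exact ⟨m, hm, ⟨(((Algebra.TensorProduct.congr (Algebra.TensorProduct.rid L K K) (AlgEquiv.refl (R := k) (A₁ := D))).symm.trans
      (Algebra.TensorProduct.assoc k L K K L D)).symm).trans φ⟩⟩
  have h3 : bc L (cl D hD) = 1 := by
    have h := pow_gcd_eq_one.mpr ⟨h1, h2⟩
    rwa [Nat.Coprime.gcd_eq_one (Nat.Coprime.pow_right a ((hp.coprime_iff_not_dvd.mpr hpe).symm)), pow_one] at h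
  have h4 : p ∣ Module.finrank k L := dvd_trans hpd (deg_dvd hd ((bc_eq_one L hD).mp h3))
  have h5 : Module.finrank k L = (P : Subgroup (K ≃ₐ[k] K)).index := by
    have hmul := Module.finrank_mul_finrank k L K
    rw [hLP, ← IsGalois.card_aut_eq_finrank k K, ← (P : Subgroup (K ≃ₐ[k] K)).index_mul_card] at hmul
    exact Nat.eq_of_mul_eq_mul_right Nat.card_pos hmul
  exact P.not_dvd_index (h5 ▸ h4)

theorem index_dvd_of_pow {A : Type v} [Ring A] [Algebra k A] (hA : IsCSA k A) {D : Type w} [DivisionRing D] [Algebra k D]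
    {d : ℕ} (hd : Module.finrank k D = d ^ 2) (hD : IsCSA k D) {D' : Type x} [DivisionRing D'] [Algebra k D'] {d' : ℕ}
    (hd' : Module.finrank k D' = d' ^ 2) (hD' : IsCSA k D') (h : cl A hA = cl D hD) (j : ℕ)
    (hj : cl D' hD' = cl A hA ^ j) : d' ∣ d := by
  haveI := hD'.fd
  obtain ⟨L, _, _, hfd, hdeg, hspl⟩ := exists_splitting_deg hD hd
  have h1 : bc L (cl D' hD') = 1 := by rw [hj, map_pow, h, (bc_eq_one L hD).mpr hspl, one_pow]
  rw [← hdeg]
  exact deg_dvd hd' ((bc_eq_one L hD').mp h1)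

end Groth.Agent.Br8
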