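import Groth.Agent.Br8.Monoid
import Groth.Agent.RN8.Range
import Groth.Agent.CSA.Basic

set_option autoImplicit false
universe u v w

open scoped TensorProduct

namespace Groth.Agent.Br8

variable {k : Type u} [Field k] {A : Type v} [Ring A] [Algebra k A]

local notation "Ω" => AlgebraicClosure k

theorem trace_rational (h : IsCSA k A) {n : ℕ} (ψ : RN8.Spl k A n) (a : A) :
    (RN8.rep ψ a).trace ∈ Set.range (algebraMap k Ω) := by
  classical
  haveI := h.central; haveI := h.simple; haveI := h.fd
  obtain ⟨k', _, _, hfd, hsep, m, -, ⟨φ⟩⟩ := CSA8.exists_splitting (k := k) A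
  let x : k' := (φ (1 ⊗ₜ a)).trace
  have hx : ∀ ι : k' →ₐ[k] Ω, ι x = (RN8.rep ψ a).trace := fun ι => by
    obtain ⟨ψ', hψ'⟩ := RN8.spl_of_iso ι φ
    obtain ⟨rfl, hh⟩ := RN8.spl_unique ψ' ψ
    rw [← (hh a).2, hψ', Matrix.trace]
    simp [x, Matrix.trace, Matrix.diag]
  have hr := Algebra.IsAlgebraic.range_eval_eq_rootSet_minpoly (K := k') (F := k) Ω x
  have hsingle : (minpoly k x).rootSet Ω = {(RN8.rep ψ a).trace} := by
    rw [← hr]
    ext y
    constructor
    · rintro ⟨ι, rfl⟩; exact hx ι
    · rintro rfl; exact ⟨IsAlgClosed.lift, hx _⟩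
  have hcard := Polynomial.card_rootSet_eq_natDegree (K := Ω) (Algebra.IsSeparable.isSeparable k x)
    (IsAlgClosed.splits ((minpoly k x).map (algebraMap k Ω)))
  have h1 : (minpoly k x).natDegree = 1 := by
    rw [← hcard, Fintype.card_eq_one_iff]
    exact ⟨⟨_, (Set.ext_iff.mp hsingle _).mpr rfl⟩, fun y => Subtype.ext ((Set.ext_iff.mp hsingle _).mp y.2)⟩
  obtain ⟨r, hr'⟩ := minpoly.natDegree_eq_one_iff.mp h1
  exact ⟨r, by rw [← hx IsAlgClosed.lift, ← hr', AlgHom.commutes]⟩

/-- `G ↦` its entries in a splitting of `A ⊗ A` -/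
noncomputable def ent {n : ℕ} (ψ : RN8.Spl k A n) (i j l m : Fin n) : A ⊗[k] A →ₗ[k] Ω :=
  TensorProduct.lift ((LinearMap.mul k Ω).compl₁₂
    ((Matrix.entryLinearMap k Ω i j).comp (RN8.rep ψ).toLinearMap)
    ((Matrix.entryLinearMap k Ω l m).comp (RN8.rep ψ).toLinearMap))

lemma ent_tmul {n : ℕ} (ψ : RN8.Spl k A n) (i j l m : Fin n) (a b : A) :
    ent ψ i j l m (a ⊗ₜ b) = RN8.rep ψ a i j * RN8.rep ψ b l m := by
  simp [ent]

/-- the Goldman element -/
theorem exists_swap (h : IsCSA k A) {n : ℕ} (ψ : RN8.Spl k A n) :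
    ∃ g : A ⊗[k] A, ∀ i j l m : Fin n, ent ψ i j l m g = if i = m ∧ j = l then 1 else 0 := by
  classical
  haveI := h.central; haveI := h.simple; haveI := h.fd
  choose t ht using fun a => trace_rational h ψ a
  have hinj := (algebraMap k Ω).injective
  let T : Module.End k A :=
    { toFun := fun a => t a • (1 : A)
      map_add' := fun a b => by
        rw [← add_smul]; congr 1; exact hinj (by rw [map_add, ht, ht, ht, map_add, Matrix.trace_add])
      map_smul' := fun r a => by
        rw [RingHom.id_apply, smul_smul]; congr 1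
        exact hinj (by rw [map_mul, ht, ht, map_smul, Matrix.trace_smul, Algebra.smul_def]) }
  obtain ⟨w, hw⟩ := (CSA.Basic.mulLeftRight_bijective k A).2 T
  let g : A ⊗[k] A := (TensorProduct.congr (LinearEquiv.refl k A) (MulOpposite.opLinearEquiv k).symm) w
  have key : ∀ (G : A ⊗[k] Aᵐᵒᵖ) (x : A) (i m : Fin n),
      RN8.rep ψ (AlgHom.mulLeftRight k A G x) i m = ∑ j, ∑ l, RN8.rep ψ x j l *
        ent ψ i j l m ((TensorProduct.congr (LinearEquiv.refl k A) (MulOpposite.opLinearEquiv k).symm) G) := by
    intro G x i m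
    induction G using TensorProduct.induction_on with
    | zero => simp
    | tmul a b =>
      rw [AlgHom.mulLeftRight_apply, map_mul, map_mul, Matrix.mul_apply]
      simp only [Matrix.mul_apply, Finset.sum_mul, TensorProduct.congr_tmul, LinearEquiv.refl_apply, ent_tmul]
      rw [Finset.sum_comm]
      refine Finset.sum_congr rfl fun j _ => Finset.sum_congr rfl fun l _ => ?_
      simp [MulOpposite.opLinearEquiv]
      ring
    | add p q hp hq =>
      simp only [map_add, LinearMap.add_apply, Matrix.add_apply, hp, hq, mul_add, Finset.sum_add_distrib]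
  refine ⟨g, fun i j l m => ?_⟩
  -- evaluate on a matrix unit
  have hall : ∀ z : Ω ⊗[k] A, ∑ j, ∑ l, ψ z j l * ent ψ i j l m g = if i = m then (ψ z).trace else 0 := by
    intro z
    induction z using TensorProduct.induction_on with
    | zero => simp
    | tmul c a =>
      rw [show c ⊗ₜ[k] a = c • ((1 : Ω) ⊗ₜ[k] a) by rw [TensorProduct.smul_tmul', smul_eq_mul, mul_one], map_smul]
      have h1 := key w a i m
      rw [hw] at h1
      change RN8.rep ψ (t a • (1 : A)) i m = _ at h1
      rw [map_smul, map_one] at h1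
      simp only [← RN8.rep_apply, Matrix.smul_apply, smul_eq_mul, mul_assoc, ← Finset.mul_sum, g, ← h1, Matrix.trace_smul]
      rw [Matrix.one_apply]
      split_ifs with him
      · rw [Algebra.smul_def, mul_one, ht]
      · rw [smul_zero, mul_zero]
    | add p q hp hq =>
      simp only [map_add, Matrix.add_apply, add_mul, Finset.sum_add_distrib, hp, hq, Matrix.trace_add]
      split_ifs <;> simp
  have h2 := hall (ψ.symm (Matrix.single j l 1))
  rw [ψ.apply_symm_apply] at h2
  rw [Finset.sum_eq_single j (fun a _ ha => Finset.sum_eq_zero fun b _ => by simp [Matrix.single, Ne.symm ha])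
    (by simp), Finset.sum_eq_single l (fun b _ hb => by simp [Matrix.single, Ne.symm hb]) (by simp)] at h2
  rw [show (Matrix.single j l (1 : Ω)) j l = 1 by simp, one_mul] at h2
  rw [h2]
  by_cases hjl : j = l
  · subst hjl; simp [Matrix.trace_single_eq_same]
  · simp [Matrix.trace_single_eq_of_ne _ _ _ hjl, hjl]

section Power

variable {n : ℕ} (ψ : RN8.Spl k A n)

/-- the representation of `A^{⊗n}` on `(Ω^n)^{⊗n}` -/
noncomputable def prep (ψ : RN8.Spl k A n) : CSAGal.tpow k A n →ₐ[k] Matrix (Fin n → Fin n) (Fin n → Fin n) Ω :=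
  PiTensorProduct.liftAlgHom
    (MultilinearMap.pi fun f : Fin n → Fin n => MultilinearMap.pi fun h : Fin n → Fin n =>
      (MultilinearMap.mkPiAlgebra k (Fin n) Ω).compLinearMap fun l =>
        (Matrix.entryLinearMap k Ω (f l) (h l)).comp (RN8.rep ψ).toLinearMap)
    (by
      funext f h
      show ∏ l, RN8.rep ψ 1 (f l) (h l) = (1 : Matrix (Fin n → Fin n) (Fin n → Fin n) Ω) f h
      rw [map_one, Matrix.one_apply]
      by_cases hfh : f = h
      · subst hfh; simp
      · rw [if_neg hfh]
        obtain ⟨l, hl⟩ := Function.ne_iff.mp hfh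
        exact Finset.prod_eq_zero (Finset.mem_univ l) (by rw [Matrix.one_apply_ne hl]))
    (fun a b => by
      funext f h
      show ∏ l, RN8.rep ψ (a l * b l) (f l) (h l) = ∑ g : Fin n → Fin n, (∏ l, RN8.rep ψ (a l) (f l) (g l)) * ∏ l, RN8.rep ψ (b l) (g l) (h l)
      simp only [map_mul, Matrix.mul_apply, ← Finset.prod_mul_distrib]
      rw [Fintype.prod_sum])

lemma prep_tprod (a : Fin n → A) (f h : Fin n → Fin n) :
    prep ψ (PiTensorProduct.tprod k a) f h = ∏ l, RN8.rep ψ (a l) (f l) (h l) := by
  simp [prep]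
  rfl

/-- permutation matrices -/
noncomputable def permM (σ : Equiv.Perm (Fin n)) : Matrix (Fin n → Fin n) (Fin n → Fin n) Ω :=
  Matrix.of fun f h => if f ∘ σ = h then 1 else 0

lemma permM_mul (σ τ : Equiv.Perm (Fin n)) : permM (k := k) σ * permM τ = permM (σ * τ) := by
  classical
  ext f h
  rw [Matrix.mul_apply, Finset.sum_eq_single (f ∘ σ)]
  · simp [permM, Function.comp_assoc]
  · intro g _ hg; simp [permM, Ne.symm hg]
  · simp

theorem permM_mem (hA : IsCSA k A) (σ : Equiv.Perm (Fin n)) : permM σ ∈ (prep ψ).range := by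
  classical
  induction σ using Equiv.Perm.swap_induction_on with
  | one =>
    refine ⟨1, (map_one _).trans ?_⟩
    ext f h; simp [permM, Matrix.one_apply]
  | swap_mul τ x y hxy ih =>
    rw [← permM_mul]
    refine mul_mem ?_ ih
    obtain ⟨g, hg⟩ := exists_swap hA ψ
    have hcomm : ∀ a b : A, Commute (PiTensorProduct.singleAlgHom (R := k) (A := fun _ : Fin n => A) x a)
        (PiTensorProduct.singleAlgHom (R := k) (A := fun _ : Fin n => A) y b) := fun a b =>
      Commute.tprod (Pi.mulSingle_commute (f := fun _ : Fin n => A) hxy a b)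
    refine ⟨Algebra.TensorProduct.lift _ _ hcomm g, ?_⟩
    ext f h
    show prep ψ (Algebra.TensorProduct.lift _ _ hcomm g) f h = _
    have key : ∀ G : A ⊗[k] A, prep ψ (Algebra.TensorProduct.lift _ _ hcomm G) f h =
        (∏ l ∈ (Finset.univ.erase x).erase y, if f l = h l then (1 : Ω) else 0) * ent ψ (f x) (h x) (f y) (h y) G := by
      intro G
      induction G using TensorProduct.induction_on with
      | zero => simp
      | tmul a b =>
        rw [Algebra.TensorProduct.lift_tmul, PiTensorProduct.singleAlgHom_apply, PiTensorProduct.singleAlgHom_apply,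
          PiTensorProduct.tprod_mul_tprod, prep_tprod, ent_tmul,
          ← Finset.mul_prod_erase _ _ (Finset.mem_univ x),
          ← Finset.mul_prod_erase (Finset.univ.erase x) _ (a := y) (Finset.mem_erase.mpr ⟨hxy.symm, Finset.mem_univ y⟩)]
        rw [Finset.prod_congr rfl (g := fun l => if f l = h l then (1 : Ω) else 0) (s₂ := (Finset.univ.erase x).erase y)
          fun l hl => by
            rw [Finset.mem_erase, Finset.mem_erase] at hl
            simp [Pi.mul_apply, Pi.mulSingle_eq_of_ne hl.1, Pi.mulSingle_eq_of_ne hl.2.1, Matrix.one_apply]]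
        simp [Pi.mul_apply, Pi.mulSingle_eq_of_ne hxy, Pi.mulSingle_eq_of_ne hxy.symm]
        ring
      | add p q hp hq => simp only [map_add, Matrix.add_apply, hp, hq, mul_add]
    rw [key, hg, Finset.prod_boole]
    simp only [permM, Matrix.of_apply, ite_zero_mul, one_mul]
    by_cases hfh : f ∘ Equiv.swap x y = h
    · subst hfh
      rw [if_pos (fun l hl => by
        rw [Finset.mem_erase, Finset.mem_erase] at hl
        simp [Equiv.swap_apply_of_ne_of_ne hl.2.1 hl.1]), if_pos (by simp), if_pos rfl]
    · rw [if_neg hfh]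
      split_ifs with h1 h2 <;> try rfl
      refine absurd (funext fun l => ?_) hfh
      rcases eq_or_ne l x with rfl | hlx
      · simp [h2.2]
      rcases eq_or_ne l y with rfl | hly
      · simp [h2.1]
      · simpa [Equiv.swap_apply_of_ne_of_ne hlx hly] using h1 l (by simp [hlx, hly])

/-- the antisymmetriser has rank one -/
lemma antisym_eq : (∑ σ : Equiv.Perm (Fin n), (Equiv.Perm.sign σ : ℤ) • permM (k := k) σ) =
    Matrix.vecMulVec (fun f => (Matrix.of fun i l : Fin n => if f i = l then (1 : Ω) else 0).det)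
      (fun h => (Matrix.of fun i l : Fin n => if h i = l then (1 : Ω) else 0).det) := by
  classical
  ext f h
  rw [Matrix.vecMulVec_apply, ← Matrix.det_transpose (Matrix.of fun i l : Fin n => if h i = l then (1 : Ω) else 0),
    ← Matrix.det_mul]
  have hM : (Matrix.of fun i l : Fin n => if f i = l then (1 : Ω) else 0) *
      (Matrix.of fun i l : Fin n => if h i = l then (1 : Ω) else 0).transpose =
      Matrix.of fun i j : Fin n => if f i = h j then (1 : Ω) else 0 := by
    ext i j
    rw [Matrix.mul_apply, Finset.sum_eq_single (f i)]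
    · simp [eq_comm]
    · intro b _ hb; simp [Ne.symm hb]
    · simp
  rw [hM, Matrix.det_apply, Matrix.sum_apply]
  refine Finset.sum_congr rfl fun σ _ => ?_
  simp only [Matrix.smul_apply, permM, Matrix.of_apply, Finset.prod_boole, Units.smul_def]
  congr 1
  by_cases hh : f ∘ σ = h
  · subst hh; simp
  · rw [if_neg hh, if_neg (fun h' => hh (funext fun i => h' i (Finset.mem_univ i)))]

include ψ in
theorem tpow_deg_splits (hA : IsCSA k A) : Curves.Splits k (CSAGal.tpow k A n) k := by
  classical
  haveI := hA.fd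
  haveI := hA.simple
  have hT := isCSA_tpow A hA n
  haveI := hT.central; haveI := hT.simple; haveI := hT.fd
  have hn : 0 < n := by
    have hp : 0 < Module.finrank k A := Module.finrank_pos
    rw [RN8.finrank_eq ψ] at hp
    exact Nat.pos_of_ne_zero fun h => by simp [h] at hp
  haveI : Nonempty (Fin n → Fin n) := ⟨id⟩
  have hN : Fintype.card (Fin n → Fin n) = n ^ n := by rw [Fintype.card_fun, Fintype.card_fin]
  have hdim : Module.finrank k (CSAGal.tpow k A n) = n ^ n * n ^ n := by
    rw [finrank_tpow, RN8.finrank_eq ψ, ← pow_mul, ← pow_add, two_mul]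
  haveI := CSA8.tensor_simple k Ω (CSAGal.tpow k A n)
  let F : Ω ⊗[k] CSAGal.tpow k A n →ₐ[Ω] Matrix (Fin n → Fin n) (Fin n → Fin n) Ω :=
    Algebra.TensorProduct.lift (Algebra.ofId Ω _) (prep ψ) (fun c x => Algebra.commutes c (prep ψ x))
  have hFinj : Function.Injective F := RingHom.injective F.toRingHom
  have hFsurj : Function.Surjective F.toLinearMap :=
    (LinearMap.injective_iff_surjective_of_finrank_eq_finrank (by
      rw [Module.finrank_baseChange, hdim, Module.finrank_matrix, hN, Module.finrank_self, mul_one])).mp hFinj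
  obtain ⟨ε, hε⟩ : ∃ ε, prep ψ ε = ∑ σ : Equiv.Perm (Fin n), (Equiv.Perm.sign σ : ℤ) • permM (k := k) σ := by
    have : (∑ σ : Equiv.Perm (Fin n), (Equiv.Perm.sign σ : ℤ) • permM (k := k) σ) ∈ (prep ψ).range :=
      sum_mem fun σ _ => zsmul_mem (permM_mem ψ hA σ) _
    exact this
  rw [antisym_eq] at hε
  set w : (Fin n → Fin n) → Ω := fun h => (Matrix.of fun i l : Fin n => if h i = l then (1 : Ω) else 0).det with hw
  have hwid : w id = 1 := by
    have : (Matrix.of fun i l : Fin n => if id i = l then (1 : Ω) else 0) = 1 := by ext i l; simp [Matrix.one_apply]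
    rw [hw]; simp only [this, Matrix.det_one]
  let L : Submodule k (CSAGal.tpow k A n) := LinearMap.range (LinearMap.mulRight k ε)
  let FL : Ω ⊗[k] L →ₗ[Ω] Matrix (Fin n → Fin n) (Fin n → Fin n) Ω := F.toLinearMap.comp (L.subtype.baseChange Ω)
  have hFL : Function.Injective FL :=
    hFinj.comp (Module.Flat.lTensor_preserves_injective_linearMap L.subtype L.injective_subtype)
  let W : ((Fin n → Fin n) → Ω) →ₗ[Ω] Matrix (Fin n → Fin n) (Fin n → Fin n) Ω :=
    { toFun := fun u => Matrix.vecMulVec u w
      map_add' := fun u v => by ext; simp [Matrix.vecMulVec_apply, add_mul]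
      map_smul' := fun c u => by ext; simp [Matrix.vecMulVec_apply, mul_assoc] }
  have hWinj : Function.Injective W := fun u v huv => funext fun f => by
    have := congrFun (congrFun huv f) id
    simpa [W, Matrix.vecMulVec_apply, hwid] using this
  have hrange : LinearMap.range FL = LinearMap.range W := by
    apply le_antisymm
    · rintro _ ⟨z, rfl⟩
      induction z using TensorProduct.induction_on with
      | zero => simp
      | tmul c y =>
        obtain ⟨_, x, rfl⟩ := y
        refine ⟨c • (prep ψ x).mulVec w, ?_⟩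
        show _ = F (c ⊗ₜ[k] (x * ε))
        rw [Algebra.TensorProduct.lift_tmul, map_mul, hε, Matrix.mul_vecMulVec, Algebra.ofId_apply, ← Algebra.smul_def,
          map_smul]
        rfl
      | add p q hp hq => rw [map_add]; exact add_mem hp hq
    · rintro _ ⟨u, rfl⟩
      obtain ⟨z, hz⟩ := hFsurj (Matrix.vecMulVec u (Pi.single id 1))
      have hz' : W u = F z * prep ψ ε := by
        rw [show F z = Matrix.vecMulVec u (Pi.single id 1) from hz, hε, Matrix.vecMulVec_mul_vecMulVec]
        simp [W, hwid]
      rw [hz']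
      clear hz hz'
      induction z using TensorProduct.induction_on with
      | zero => simp
      | tmul c x =>
        refine ⟨c ⊗ₜ ⟨x * ε, x, rfl⟩, ?_⟩
        show F (c ⊗ₜ[k] (x * ε)) = F (c ⊗ₜ[k] x) * prep ψ ε
        rw [Algebra.TensorProduct.lift_tmul, Algebra.TensorProduct.lift_tmul, map_mul, mul_assoc]
      | add p q hp hq => rw [map_add, add_mul]; exact add_mem hp hq
  have hL : Module.finrank k L = n ^ n := by
    rw [← Module.finrank_baseChange (R := Ω) (S := k) (M' := L), ← LinearMap.finrank_range_of_inj hFL, hrange,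
      LinearMap.finrank_range_of_inj hWinj, Module.finrank_pi, hN]
  haveI : Nontrivial L := Module.nontrivial_of_finrank_pos (R := k) (by rw [hL]; positivity)
  let ρl : CSAGal.tpow k A n →ₗ[k] Module.End k L :=
    { toFun := fun x => (LinearMap.mulLeft k x).restrict (p := L) (q := L) (by
        rintro _ ⟨z, rfl⟩; exact ⟨x * z, mul_assoc x z ε⟩)
      map_add' := fun x y => LinearMap.ext fun z => Subtype.ext (add_mul x y (z : CSAGal.tpow k A n))
      map_smul' := fun r x => LinearMap.ext fun z => Subtype.ext (smul_mul_assoc r x (z : CSAGal.tpow k A n)) }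
  let ρ : CSAGal.tpow k A n →ₐ[k] Module.End k L :=
    AlgHom.ofLinearMap ρl
      (LinearMap.ext fun z => Subtype.ext (one_mul (z : CSAGal.tpow k A n)))
      (fun x y => LinearMap.ext fun z => Subtype.ext (mul_assoc x y (z : CSAGal.tpow k A n)))
  have hρ : Function.Injective ρ := RingHom.injective ρ.toRingHom
  have hρl : Function.Injective ρl := hρ
  haveI : Module.Free k L := Module.Free.of_divisionRing k L
  haveI : FiniteDimensional k L := Module.finite_of_finrank_pos (by rw [hL]; positivity)
  let bL := Module.finBasisOfFinrankEq k L hL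
  let E := algEquivMatrix bL
  have hdimE : Module.finrank k (CSAGal.tpow k A n) = Module.finrank k (Matrix (Fin (n ^ n)) (Fin (n ^ n)) k) := by
    rw [hdim, Module.finrank_matrix, Fintype.card_fin, Module.finrank_self, mul_one]
  let ρM : CSAGal.tpow k A n →ₐ[k] Matrix (Fin (n ^ n)) (Fin (n ^ n)) k := E.toAlgHom.comp ρ
  have hM : Function.Injective ρM.toLinearMap := E.injective.comp hρ
  have hMs : Function.Surjective ρM.toLinearMap :=
    (LinearMap.injective_iff_surjective_of_finrank_eq_finrank hdimE).mp hM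
  rw [Cyc8.splits_self_iff]
  exact ⟨n ^ n, by positivity, ⟨AlgEquiv.ofBijective ρM ⟨hM, hMs⟩⟩⟩

end Power

end Groth.Agent.Br8
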