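import Groth.Agent.Br8.Csa

set_option autoImplicit false
universe u v w x y

open scoped TensorProduct

namespace Groth.Agent.Br8

variable {k : Type u} [Field k]

/-- similarity -/
def Sim (k : Type u) [Field k] (A : Type v) [Ring A] [Algebra k A] (B : Type w) [Ring B] [Algebra k B] : Prop :=
  ∃ n m : ℕ, n ≠ 0 ∧ m ≠ 0 ∧ Nonempty (Matrix (Fin n) (Fin n) A ≃ₐ[k] Matrix (Fin m) (Fin m) B)

/-- matrices of matrices -/
noncomputable def mm (A : Type v) [Ring A] [Algebra k A] (a b : ℕ) :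
    Matrix (Fin a) (Fin a) (Matrix (Fin b) (Fin b) A) ≃ₐ[k] Matrix (Fin (a * b)) (Fin (a * b)) A :=
  (Matrix.compAlgEquiv (Fin a) (Fin b) A k).trans (Matrix.reindexAlgEquiv k A finProdFinEquiv)

noncomputable def mswap (A : Type v) [Ring A] [Algebra k A] (a b : ℕ) :
    Matrix (Fin a) (Fin a) (Matrix (Fin b) (Fin b) A) ≃ₐ[k] Matrix (Fin b) (Fin b) (Matrix (Fin a) (Fin a) A) :=
  ((Matrix.compAlgEquiv (Fin a) (Fin b) A k).trans (Matrix.reindexAlgEquiv k A (Equiv.prodComm (Fin a) (Fin b)))).trans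
    (Matrix.compAlgEquiv (Fin b) (Fin a) A k).symm

/-- `A ⊗ M_n B ≅ M_n (A ⊗ B)` -/
noncomputable def tensorMatrix (A : Type v) [Ring A] [Algebra k A] (B : Type w) [Ring B] [Algebra k B] (n : ℕ) :
    A ⊗[k] Matrix (Fin n) (Fin n) B ≃ₐ[k] Matrix (Fin n) (Fin n) (A ⊗[k] B) :=
  ((Algebra.TensorProduct.congr AlgEquiv.refl (matrixEquivTensor (Fin n) k B)).trans
    (Algebra.TensorProduct.assoc k k k A B (Matrix (Fin n) (Fin n) k)).symm).trans
      (matrixEquivTensor (Fin n) k (A ⊗[k] B)).symm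

variable {A : Type v} [Ring A] [Algebra k A] {B : Type w} [Ring B] [Algebra k B] {C : Type x} [Ring C] [Algebra k C]
  {D : Type y} [Ring D] [Algebra k D]

theorem Sim.of_equiv (e : A ≃ₐ[k] B) : Sim k A B := ⟨1, 1, one_ne_zero, one_ne_zero, ⟨e.mapMatrix⟩⟩

theorem Sim.refl (k : Type u) [Field k] (A : Type v) [Ring A] [Algebra k A] : Sim k A A := Sim.of_equiv AlgEquiv.refl

theorem Sim.symm (h : Sim k A B) : Sim k B A := by
  obtain ⟨n, m, hn, hm, ⟨e⟩⟩ := h; exact ⟨m, n, hm, hn, ⟨e.symm⟩⟩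

theorem Sim.trans (h : Sim k A B) (h' : Sim k B C) : Sim k A C := by
  obtain ⟨n, m, hn, hm, ⟨e⟩⟩ := h
  obtain ⟨p, q, hp, hq, ⟨e'⟩⟩ := h'
  exact ⟨p * n, m * q, mul_ne_zero hp hn, mul_ne_zero hm hq,
    ⟨(mm A p n).symm.trans (e.mapMatrix.trans ((mswap B p m).trans (e'.mapMatrix.trans (mm C m q))))⟩⟩

theorem sim_matrix (k : Type u) [Field k] (A : Type v) [Ring A] [Algebra k A] {n : ℕ} (hn : n ≠ 0) :
    Sim k A (Matrix (Fin n) (Fin n) A) :=
  ⟨n, 1, hn, one_ne_zero, ⟨Cyc8.matrixOne k _⟩⟩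

theorem Sim.tensor_left (k : Type u) [Field k] (A : Type v) [Ring A] [Algebra k A] {B : Type w} [Ring B] [Algebra k B]
    {B' : Type x} [Ring B'] [Algebra k B'] (h : Sim k B B') : Sim k (A ⊗[k] B) (A ⊗[k] B') := by
  obtain ⟨n, m, hn, hm, ⟨e⟩⟩ := h
  exact ⟨n, m, hn, hm,
    ⟨(tensorMatrix A B n).symm.trans ((Algebra.TensorProduct.congr AlgEquiv.refl e).trans (tensorMatrix A B' m))⟩⟩

theorem Sim.tensor (h : Sim k A B) (h' : Sim k C D) : Sim k (A ⊗[k] C) (B ⊗[k] D) :=
  (Sim.tensor_left k A h').trans ((Sim.of_equiv (Algebra.TensorProduct.comm k A D)).trans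
    ((Sim.tensor_left k D h).trans (Sim.of_equiv (Algebra.TensorProduct.comm k D B))))

theorem splits_iff_sim (h : IsCSA k A) : Curves.Splits k A k ↔ Sim k A k := by
  haveI := h.central; haveI := h.simple; haveI := h.fd
  constructor
  · intro hs
    obtain ⟨d, hd, ⟨e⟩⟩ := (Cyc8.splits_self_iff (k := k) A).mp hs
    exact (Sim.of_equiv e).trans (sim_matrix k k hd).symm
  · rintro ⟨n, m, hn, hm, ⟨e⟩⟩
    exact CSA8.splits_of_matrix k A hn (CSA8.splits_congr k e
      (CSA8.splits_matrix k k hm ((Cyc8.splits_self_iff (k := k) k).mpr ⟨1, one_ne_zero, ⟨Cyc8.matrixOne k k⟩⟩)))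

/-- small models -/
structure Obj (k : Type u) [Field k] : Type (u + 1) where
  carrier : Type u
  [ring : Ring carrier]
  [alg : Algebra k carrier]
  csa : IsCSA k carrier

attribute [instance] Obj.ring Obj.alg

instance objSetoid (k : Type u) [Field k] : Setoid (Obj k) where
  r a b := Sim k a.carrier b.carrier
  iseqv := ⟨fun a => Sim.refl k a.carrier, Sim.symm, Sim.trans⟩

/-- the Brauer monoid -/
def Br (k : Type u) [Field k] : Type (u + 1) := Quotient (objSetoid k)

instance : One (Br k) := ⟨Quotient.mk _ ⟨k, isCSA_self⟩⟩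

noncomputable instance : Mul (Br k) := ⟨Quotient.map₂ (fun a b => ⟨a.carrier ⊗[k] b.carrier, isCSA_tensor a.csa b.csa⟩)
  (fun _ _ h _ _ h' => Sim.tensor h h')⟩

noncomputable instance : CommMonoid (Br k) where
  mul_assoc a b c := Quotient.inductionOn₃ a b c fun p q r =>
    Quotient.sound (Sim.of_equiv (Algebra.TensorProduct.assoc k k k p.carrier q.carrier r.carrier))
  one_mul a := Quotient.inductionOn a fun p => Quotient.sound (Sim.of_equiv (Algebra.TensorProduct.lid k p.carrier))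
  mul_one a := Quotient.inductionOn a fun p => Quotient.sound (Sim.of_equiv (Algebra.TensorProduct.rid k k p.carrier))
  mul_comm a b := Quotient.inductionOn₂ a b fun p q =>
    Quotient.sound (Sim.of_equiv (Algebra.TensorProduct.comm k p.carrier q.carrier))

theorem small_of_fd (k : Type u) [Field k] (A : Type v) [Ring A] [Algebra k A] [FiniteDimensional k A] :
    Small.{u} A :=
  small_of_injective (Module.finBasis k A).equivFun.injective

/-- the class of an algebra (of any universe) -/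
noncomputable def cl (A : Type v) [Ring A] [Algebra k A] (h : IsCSA k A) : Br k :=
  haveI := h.fd
  haveI := small_of_fd k A
  Quotient.mk _ ⟨Shrink.{u} A, isCSA_congr h (Shrink.algEquiv k A).symm⟩

theorem cl_eq_iff {hA : IsCSA k A} {hB : IsCSA k B} : cl A hA = cl B hB ↔ Sim k A B := by
  haveI := hA.fd
  haveI := hB.fd
  haveI := small_of_fd k A
  haveI := small_of_fd k B
  have eA : Sim k (Shrink.{u} A) A := Sim.of_equiv (Shrink.algEquiv k A)
  have eB : Sim k (Shrink.{u} B) B := Sim.of_equiv (Shrink.algEquiv k B)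
  exact ⟨fun h => eA.symm.trans ((Quotient.exact h : Sim k (Shrink.{u} A) (Shrink.{u} B)).trans eB),
    fun h => Quotient.sound (eA.trans (h.trans eB.symm))⟩

theorem cl_tensor (hA : IsCSA k A) (hB : IsCSA k B) :
    cl (A ⊗[k] B) (isCSA_tensor hA hB) = cl A hA * cl B hB := by
  haveI := hA.fd
  haveI := hB.fd
  haveI := small_of_fd k A
  haveI := small_of_fd k B
  haveI := small_of_fd k (A ⊗[k] B)
  exact Quotient.sound ((Sim.of_equiv (Shrink.algEquiv k (A ⊗[k] B))).trans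
    ((Sim.of_equiv (Shrink.algEquiv k A)).symm.tensor (Sim.of_equiv (Shrink.algEquiv k B)).symm))

theorem cl_eq_one {hA : IsCSA k A} : cl A hA = 1 ↔ Curves.Splits k A k := by
  haveI := hA.fd
  haveI := small_of_fd k A
  rw [splits_iff_sim hA]
  exact ⟨fun h => (Sim.of_equiv (Shrink.algEquiv k A)).symm.trans (Quotient.exact h : Sim k (Shrink.{u} A) k),
    fun h => Quotient.sound ((Sim.of_equiv (Shrink.algEquiv k A)).trans h)⟩

theorem cl_congr {hA : IsCSA k A} {hB : IsCSA k B} (e : A ≃ₐ[k] B) : cl A hA = cl B hB :=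
  cl_eq_iff.mpr (Sim.of_equiv e)

theorem cl_tpow (hA : IsCSA k A) (e : ℕ) : cl (CSAGal.tpow k A e) (isCSA_tpow A hA e) = cl A hA ^ e := by
  induction e with
  | zero =>
    rw [pow_zero, cl_eq_one]
    exact (Cyc8.splits_self_iff (k := k) _).mpr ⟨1, one_ne_zero, ⟨(tpowZero A).trans (Cyc8.matrixOne k k)⟩⟩
  | succ e ih =>
    rw [pow_succ, ← ih, ← cl_tensor]
    exact cl_congr (Cyc8.tpowSucc k A e)

theorem tpow_splits_iff (hA : IsCSA k A) (e : ℕ) :
    Curves.Splits k (CSAGal.tpow k A e) k ↔ cl A hA ^ e = 1 := by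
  rw [← cl_tpow hA e, cl_eq_one]

end Groth.Agent.Br8
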