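import Groth.Agent.Br8.Period
import Groth.Agent.CSA8.Simple
import Groth.Agent.CSA.MatrixUnique

set_option autoImplicit false
universe u v w

namespace Groth.Agent.Br8

variable {k : Type u} [Field k]

theorem central_quat (h2 : (2 : k) ≠ 0) {a b : k} (ha : a ≠ 0) :
    Algebra.IsCentral k (QuaternionAlgebra k a 0 b) := by
  refine ⟨fun x hx => ?_⟩
  rw [Subalgebra.mem_center_iff] at hx
  have hI := hx ⟨0, 1, 0, 0⟩
  have hJ := hx ⟨0, 0, 1, 0⟩
  have h1 := congrArg QuaternionAlgebra.imK hI
  have h2' := congrArg QuaternionAlgebra.imJ hI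
  have h3 := congrArg QuaternionAlgebra.imK hJ
  simp only [QuaternionAlgebra.imI_mul, QuaternionAlgebra.imJ_mul, QuaternionAlgebra.imK_mul, zero_mul, mul_zero,
    one_mul, mul_one, add_zero, zero_add, sub_zero, zero_sub, neg_zero] at h1 h2' h3
  have eK : x.imK = 0 := by
    have : (2 * a) * x.imK = 0 := by linear_combination h2'
    exact (mul_eq_zero.mp this).resolve_left (mul_ne_zero h2 ha)
  have eJ : x.imJ = 0 := by
    have : (2 : k) * x.imJ = 0 := by linear_combination h1
    exact (mul_eq_zero.mp this).resolve_left h2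
  have eI : x.imI = 0 := by
    have : (2 : k) * x.imI = 0 := by linear_combination -h3
    exact (mul_eq_zero.mp this).resolve_left h2
  rw [Algebra.mem_bot]
  exact ⟨x.re, QuaternionAlgebra.ext (by simp) (by simp [eI]) (by simp [eJ]) (by simp [eK])⟩

theorem quat_ne_zero {a b : k} (h : ∀ x : QuaternionAlgebra k a 0 b, x ≠ 0 → IsUnit x) : a ≠ 0 := by
  intro ha
  let I : QuaternionAlgebra k a 0 b := ⟨0, 1, 0, 0⟩
  have hI : I ≠ 0 := fun h => one_ne_zero (congrArg QuaternionAlgebra.imI h)
  have hII : I * I = 0 := by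
    ext <;> simp [I, ha]
  exact hI ((h I hI).mul_left_cancel (hII.trans (mul_zero I).symm))

/-- division algebras of degree two are quaternion -/
theorem exists_quat (h2 : (2 : k) ≠ 0) (D : Type v) [DivisionRing D] [Algebra k D] [Algebra.IsCentral k D]
    [FiniteDimensional k D] (hD : Module.finrank k D = 4) :
    ∃ a b : k, Nonempty (D ≃ₐ[k] QuaternionAlgebra k a 0 b) := by
  obtain ⟨n, -, hn, ⟨δ⟩⟩ := exists_deg (isCSA (k := k) D)
  obtain rfl : n = 2 := Nat.pow_left_injective two_ne_zero (hn.symm.trans hD)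
  obtain ⟨pp, hpp, emb, -, hdeg', hfd, -⟩ := RN8.exists_separable_field δ 1
    (by rw [map_one, Matrix.det_one]; exact one_ne_zero)
  haveI := hfd
  obtain ⟨L, _, _, hfd', hdeg, emb⟩ : ∃ (L : Type u) (_ : Field L) (_ : Algebra k L) (_ : FiniteDimensional k L)
      (_ : Module.finrank k L = 2), Nonempty (L →ₐ[k] D) :=
    ⟨AdjoinRoot pp, inferInstance, inferInstance, hfd, hdeg', ⟨emb⟩⟩
  obtain ⟨emb⟩ := emb
  obtain ⟨w, hw⟩ : ∃ w : L, w ∉ Set.range (algebraMap k L) := by
    by_contra! h
    have : (⊤ : Subalgebra k L) = ⊥ := eq_bot_iff.mpr fun x _ => Algebra.mem_bot.mpr (h x)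
    have := Subalgebra.finrank_bot (F := k) (E := L)
    rw [← ‹(⊤ : Subalgebra k L) = ⊥›, (Subalgebra.topEquiv (R := k) (A := L)).toLinearEquiv.finrank_eq] at this
    omega
  have hwint : IsIntegral k w := Algebra.IsIntegral.isIntegral w
  have hdeg2 : (minpoly k w).natDegree = 2 := by
    have hle : (minpoly k w).natDegree ≤ 2 := hdeg ▸ minpoly.natDegree_le w
    have hne : (minpoly k w).natDegree ≠ 1 := fun h => hw (minpoly.natDegree_eq_one_iff.mp h)
    have := minpoly.natDegree_pos hwint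
    omega
  have hq := minpoly.aeval k w
  rw [Polynomial.aeval_eq_sum_range, hdeg2, Finset.sum_range_succ, Finset.sum_range_succ, Finset.sum_range_succ,
    Finset.sum_range_zero, zero_add, pow_zero, pow_one] at hq
  have hlc : (minpoly k w).coeff 2 = 1 := hdeg2 ▸ (minpoly.monic hwint).coeff_natDegree
  rw [hlc, one_smul] at hq
  set p := (minpoly k w).coeff 1
  set r := (minpoly k w).coeff 0
  let i₀ : L := w + algebraMap k L (p / 2)
  set a : k := (p / 2) ^ 2 - r with hadef
  have h2L : (2 : L) ≠ 0 := by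
    have := (_root_.map_ne_zero (algebraMap k L)).mpr h2
    rwa [map_ofNat] at this
  have hi₀ : i₀ * i₀ = algebraMap k L a := by
    have h4 : algebraMap k L p = 2 * algebraMap k L (p / 2) := by
      rw [show (2 : L) = algebraMap k L 2 from (map_ofNat _ 2).symm, ← map_mul]
      congr 1; field_simp
    simp only [Algebra.smul_def, mul_one, h4] at hq
    simp only [i₀, a, map_sub, map_pow]
    linear_combination hq
  let i : D := emb i₀
  have hi : i * i = algebraMap k D a := by rw [← map_mul, hi₀, AlgHom.commutes]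
  have hi_notk : i ∉ Set.range (algebraMap k D) := fun ⟨c, hc⟩ => hw
    ⟨c - p / 2, emb.toRingHom.injective (show emb _ = emb _ by rw [AlgHom.commutes, map_sub, hc]; simp [i, i₀])⟩
  have ha : a ≠ 0 := fun h0 => hi_notk ⟨0, by
    rw [h0, map_zero, mul_self_eq_zero] at hi
    rw [hi, map_zero]⟩
  obtain ⟨x, hx⟩ : ∃ x : D, i * x - x * i ≠ 0 := by
    by_contra! h
    exact hi_notk (Algebra.mem_bot.mp (Algebra.IsCentral.out
      (Subalgebra.mem_center_iff.mpr fun y => (sub_eq_zero.mp (h y)).symm)))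
  let j : D := i * x - x * i
  have hij : i * j = -(j * i) := by
    simp only [j, mul_sub, sub_mul, ← mul_assoc, hi]
    rw [mul_assoc x i i, hi, Algebra.commutes a x]
    abel
  have hji : j * i = -(i * j) := by rw [hij, neg_neg]
  have hcomm : i * (j * j) = (j * j) * i := by
    rw [← mul_assoc, hij, neg_mul, mul_assoc j i j, hij, mul_neg, neg_neg, mul_assoc]
  obtain ⟨u, v, huv⟩ : ∃ u v : k, algebraMap k D u + v • i = j * j := by
    let B : Subalgebra k D := emb.range
    let eB : L ≃ₐ[k] B := AlgEquiv.ofInjective emb emb.toRingHom.injective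
    haveI : IsSimpleRing B := IsSimpleRing.of_ringEquiv eB.toRingEquiv inferInstance
    have hBC := (CSA8.centralizer (k := k) (A := D) B).2
    rw [hD, ← eB.toLinearEquiv.finrank_eq, hdeg] at hBC
    have hle : B ≤ Subalgebra.centralizer k (B : Set D) := by
      rintro _ ⟨y, rfl⟩
      rw [Subalgebra.mem_centralizer_iff]
      rintro _ ⟨z, rfl⟩
      show emb z * emb y = emb y * emb z
      rw [← map_mul, ← map_mul, mul_comm]
    have heq : B = Subalgebra.centralizer k (B : Set D) :=
      Subalgebra.eq_of_le_of_finrank_eq hle (by rw [← eB.toLinearEquiv.finrank_eq, hdeg]; omega)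
    have hi₀k : i₀ ∉ Set.range (algebraMap k L) := fun ⟨c, hc⟩ => hw ⟨c - p / 2, by rw [map_sub, hc]; simp [i₀]⟩
    have hli : LinearIndependent k ![i₀, (1 : L)] := linearIndependent_fin2.mpr
      ⟨one_ne_zero, fun c hc => hi₀k ⟨c, by rw [Algebra.algebraMap_eq_smul_one]; exact hc⟩⟩
    have hgen : ∀ y : L, ∃ u v : k, algebraMap k L u + v • i₀ = y := fun y => by
      let bs := basisOfLinearIndependentOfCardEqFinrank hli (by rw [Fintype.card_fin, hdeg])
      refine ⟨bs.repr y 1, bs.repr y 0, ?_⟩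
      conv_rhs => rw [← bs.sum_repr y]
      simp [bs, Fin.sum_univ_two, Algebra.algebraMap_eq_smul_one, add_comm]
    have hmem : j * j ∈ B := by
      rw [heq, Subalgebra.mem_centralizer_iff]
      rintro _ ⟨y, rfl⟩
      show emb y * (j * j) = (j * j) * emb y
      obtain ⟨u, v, rfl⟩ := hgen y
      rw [map_add, AlgHom.commutes, map_smul, add_mul, mul_add, smul_mul_assoc, mul_smul_comm, hcomm,
        Algebra.commutes]
    obtain ⟨y, hy⟩ := hmem
    obtain ⟨u, v, rfl⟩ := hgen y
    refine ⟨u, v, ?_⟩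
    rw [← hy]
    show _ = emb _
    rw [map_add, AlgHom.commutes, map_smul]
  have hjne : j ≠ 0 := hx
  have hine : i ≠ 0 := fun h => hi_notk ⟨0, by rw [h, map_zero]⟩
  have h2D : (2 : D) ≠ 0 := by
    have := (_root_.map_ne_zero (algebraMap k D)).mpr h2
    rwa [map_ofNat] at this
  have hv : v = 0 := by
    by_contra hv
    have h1 : j * (j * j) = (j * j) * j := (mul_assoc _ _ _).symm
    rw [← huv, mul_add, add_mul, ← Algebra.commutes u j, add_right_inj, mul_smul_comm, smul_mul_assoc,
      hji, smul_neg, ← sub_eq_zero, sub_eq_add_neg, ← neg_add, neg_eq_zero, ← two_smul k, smul_eq_zero, smul_eq_zero] at h1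
    simp [h2, hv, hine, hjne] at h1
  rw [hv, zero_smul, add_zero] at huv
  let q : QuaternionAlgebra.Basis D a 0 u :=
    { i := i, j := j, k := i * j
      i_mul_i := by rw [hi, zero_smul, add_zero, Algebra.algebraMap_eq_smul_one]
      j_mul_j := by rw [← huv, Algebra.algebraMap_eq_smul_one]
      i_mul_j := rfl
      j_mul_i := by rw [zero_smul, zero_sub, hji] }
  have hinj : Function.Injective q.liftHom.toLinearMap := by
    rw [← LinearMap.ker_eq_bot, LinearMap.ker_eq_bot']
    intro z hz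
    change algebraMap k D z.re + z.imI • i + z.imJ • j + z.imK • (i * j) = 0 at hz
    set X := algebraMap k D z.re + z.imI • i
    set Y := algebraMap k D z.imJ + z.imK • i
    have hXY : X + Y * j = 0 := by
      rw [← hz]; simp only [X, Y, add_mul, smul_mul_assoc, ← Algebra.smul_def]; abel
    have hiX : i * X = X * i := by
      simp only [X, mul_add, add_mul, mul_smul_comm, smul_mul_assoc, Algebra.commutes]
    have hiY : i * Y = Y * i := by
      simp only [Y, mul_add, add_mul, mul_smul_comm, smul_mul_assoc, Algebra.commutes]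
    have hY : Y = 0 := by
      have e : i * (X + Y * j) - (X + Y * j) * i = (2 : D) * (Y * (i * j)) := by
        generalize X = X' at hiX
        generalize Y = Y' at hiY
        rw [mul_add, add_mul, hiX, ← mul_assoc i Y' j, hiY, mul_assoc Y' i j, mul_assoc Y' j i, hji, mul_neg, two_mul]
        abel
      rw [hXY, mul_zero, zero_mul, sub_zero] at e
      simpa [h2D, hine, hjne] using e.symm
    rw [hY, zero_mul, add_zero] at hXY
    have key : ∀ c d : k, algebraMap k D c + d • i = 0 → c = 0 ∧ d = 0 := fun c d h => by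
      have hd : d = 0 := by
        by_contra hd
        refine hi_notk ⟨-(d⁻¹ * c), ?_⟩
        rw [eq_neg_of_add_eq_zero_left h |> fun h' => show algebraMap k D (-(d⁻¹ * c)) = d⁻¹ • -(algebraMap k D c) by
          rw [map_neg, map_mul, smul_neg, ← Algebra.smul_def], eq_neg_of_add_eq_zero_left h, neg_neg, smul_smul,
          inv_mul_cancel₀ hd, one_smul]
      subst hd
      rw [zero_smul, add_zero] at h
      exact ⟨(_root_.map_eq_zero _).mp h, rfl⟩
    obtain ⟨e1, e2⟩ := key _ _ hXY
    obtain ⟨e3, e4⟩ := key _ _ hY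
    exact QuaternionAlgebra.ext e1 e2 e3 e4
  have hdim : Module.finrank k (QuaternionAlgebra k a 0 u) = Module.finrank k D := by
    rw [hD, QuaternionAlgebra.finrank_eq_four]
  exact ⟨a, u, ⟨(AlgEquiv.ofBijective q.liftHom
    ⟨hinj, (LinearMap.injective_iff_surjective_of_finrank_eq_finrank hdim).mp hinj⟩).symm⟩⟩

theorem quat_iff (h2 : (2 : k) ≠ 0) {A : Type v} [Ring A] [Algebra k A] (hA : IsCSA k A) :
    (CSAGal.IsPeriod k A 2 ∧ CSAGal.IsIndex k A 2) ↔
      ∃ (a b : k) (m : ℕ), 0 < m ∧ (∀ x : QuaternionAlgebra k a 0 b, x ≠ 0 → IsUnit x) ∧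
        Nonempty (A ≃ₐ[k] Matrix (Fin m) (Fin m) (QuaternionAlgebra k a 0 b)) := by
  haveI := hA.central
  constructor
  · rintro ⟨-, -, m, D, _, _, hm, hfin, ⟨e⟩⟩
    haveI : Algebra.IsCentral k D := central_of_matrix hm.ne' e
    haveI : FiniteDimensional k D := FiniteDimensional.of_finrank_pos (by rw [hfin]; norm_num)
    obtain ⟨a, b, ⟨η⟩⟩ := exists_quat h2 D (by rw [hfin]; norm_num)
    refine ⟨a, b, m, hm, fun x hx => ?_, ⟨e.trans η.mapMatrix⟩⟩
    have := (isUnit_iff_ne_zero.mpr fun h => hx (by simpa using congrArg η h) : IsUnit (η.symm x)).map η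
    simpa using this
  · rintro ⟨a, b, m, hm, hu, ⟨e⟩⟩
    letI : DivisionRing (QuaternionAlgebra k a 0 b) :=
      DivisionRing.ofIsUnitOrEqZero fun x => (em (x = 0)).elim Or.inr (fun h => Or.inl (hu x h))
    haveI := central_quat h2 (b := b) (quat_ne_zero hu)
    obtain ⟨s, D, _, _, hs, hD, ⟨f⟩⟩ := exists_division hA
    haveI := hD.fd
    haveI : Nonempty (Fin m) := ⟨⟨0, hm⟩⟩
    haveI : Nonempty (Fin s) := ⟨⟨0, Nat.pos_of_ne_zero hs⟩⟩
    obtain ⟨⟨η⟩, -⟩ := CSA.MatrixUnique.unique (f.symm.trans e)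
    have hdim : Module.finrank k D = 2 ^ 2 := by
      rw [η.toLinearEquiv.finrank_eq, QuaternionAlgebra.finrank_eq_four]; norm_num
    have hidx : CSAGal.IsIndex k A 2 := ⟨two_pos, s, D, _, _, Nat.pos_of_ne_zero hs, hdim, ⟨f⟩⟩
    have hcl : cl A hA = cl D hD := cl_eq_iff.mpr ((Sim.of_equiv f).trans (sim_matrix k D hs).symm)
    refine ⟨(period_iff hA 2).mpr ⟨two_pos, ?_⟩, hidx⟩
    haveI : Fact (Nat.Prime 2) := ⟨Nat.prime_two⟩
    rw [hcl]
    refine orderOf_eq_prime (deg_pow hD hdim) fun h1 => ?_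
    have := deg_dvd hdim (cl_eq_one.mp h1)
    rw [Module.finrank_self] at this
    omega

end Groth.Agent.Br8
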